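import Mathlib
import Cfsg.Agent.Lib.GHA.Bal
import Cfsg.Agent.Lib.Bal.Delta
import Cfsg.Agent.Lib.SSFT.Main
import Cfsg.Agent.Lib.GHA.SigB

/-! The core of `C(z)` is trivial.  See `plans/GHA.md`. -/

set_option autoImplicit false
set_option linter.unusedSectionVars false

namespace CfsgLib.GHA

open Subgroup Cfsg CfsgLib.W2 CfsgLib.Tech CfsgLib.PComp CfsgLib.GW.Cor CfsgLib.Abel2
open scoped MatrixGroups

universe u

namespace SG

theorem le_of_odd {G : Type*} [Group G] [Finite G] {K T M : Subgroup G} (hT : IsSylowIn 2 T K)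
    (h1 : T ≤ M) (h2 : ∀ x ∈ K, Odd (orderOf x) → x ∈ M) : K ≤ M := by
  rw [← subgroupOf_eq_top, eq_top_iff, ← Transfer.pResidual_sup_sylow hT.toSylow]
  exact sup_le (Transfer.pResidual_le_iff.2 fun x hx => h2 x x.2
    (by rw [orderOf_coe]; exact Nat.coprime_two_right.1 hx)) fun x hx => h1 (hT.mem_toSylow.1 hx)

theorem Cx_conj_le {G : Type*} [Group G] {M : Subgroup G} {k x : G} (hk : k ∈ M) (hx : Cx x ≤ M) :
    Cx (k * x * k⁻¹) ≤ M := by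
  rw [← cj_Cx, ← cj_eq_of_mem hk]; exact cj_mono _ hx

variable {G : Type u} [Group G] [Finite G] {z τ y : G} {c : Fin 5 → G}

/-- an overgroup of `C(z)` that fuses `z` and `τ` is everything -/
theorem eq_top (h : Cls z τ y) (hb : Beta z τ) (hc : Five z c) (e0 : c 0 = z) (e1 : c 1 = τ)
    {M : Subgroup G} (hM : Cx z ≤ M) {s : G} (hs : s ∈ M) (e : s * z * s⁻¹ = τ) : M = ⊤ := by
  refine h.eq_top hM (Or.inr ?_) hs e
  have h1 : ∀ k, Cx (c k) ≤ M := fun k => by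
    obtain ⟨g, hg, e2 | e2 | e2 | e2⟩ := h.conj_in hM (h.ord (hc.conj k))
      (hM (mem_Cx.2 (e0 ▸ hc.comm k 0)))
    · exact e2 ▸ Cx_conj_le hg hM
    · exact e2 ▸ Cx_conj_le hg (e ▸ Cx_conj_le hs hM)
    · exact absurd (isConj_conj_iff.1 (e2 ▸ hc.conj k)) h.zt
    · exact absurd (isConj_conj_iff.1 (e2 ▸ hc.conj k)) h.not_y
  have h2 : ∀ k, c k ∈ Cx (z * τ) := fun k =>
    e0 ▸ e1 ▸ A_le hc (mul_mem (mem_AA c 0) (mem_AA c 1)) (mem_AA c k)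
  have h3 : Oc (z * τ) ≤ M := by
    refine opOf_le_of_four (h.ord (hc.conj 2)) (h.ord (hc.conj 3)) (hc.inj.ne (by decide))
      (hc.comm 2 3) (h2 2) (h2 3) (inf_le_right.trans (h1 2)) (inf_le_right.trans (h1 3))
      fun x hx => h1 4 ?_
    have h4 := BL.five h hc
    rw [e0, e1, ← eq_mul_inv_iff_mul_eq] at h4
    exact mem_Cx.2 (h4 ▸ (show Commute _ _ from mem_Cx.1 hx.2).mul_right
      (show Commute _ _ from mem_Cx.1 hx.1).inv_right)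
  obtain ⟨T, hT, h4⟩ := exists_isSylowIn_ge (BL.two_grp h.ot)
    (zpowers_le.2 (mem_Cx.2 rfl : z * τ ∈ Cx (z * τ)))
  obtain ⟨S, hS, h5⟩ := h.exists_sylow
  obtain ⟨g, -, hg⟩ := hS.exists_cj_le hT.pgroup le_top
  replace hg := hg.trans (h5.trans hM)
  obtain ⟨m, hm, e2⟩ : ∃ m ∈ M, m * (z * τ) * m⁻¹ = g * (z * τ) * g⁻¹ := by
    obtain ⟨m, hm, e2 | e2 | e2 | e2⟩ := h.conj_in hM (by rw [ord_conj, h.ot])
      (hg (conj_mem_cj.2 (h4 (mem_zpowers _))))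
    · exact absurd (isConj_conj_iff.1 (e2 ▸ isConj_conj m z)) h.zt
    · exact absurd (isConj_conj_iff.1 (e2 ▸ isConj_conj_iff.2 h.zτ)) h.zt
    · exact ⟨m, hm, e2⟩
    · obtain ⟨n, hn, e3⟩ := h.fuse hM hs e
      exact ⟨m * n, mul_mem hm hn, by rw [← e2, ← e3]; group⟩
  refine le_of_odd (hT.cj_of_mem (g := m⁻¹ * g) (mem_Cx'.2 ?_)) ?_ fun x hx ho => ?_
  · rw [show m⁻¹ * g * (z * τ) * (m⁻¹ * g)⁻¹ = m⁻¹ * (g * (z * τ) * g⁻¹) * m by group, ← e2]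
    group
  · rw [cj_mul, ← cj_eq_of_mem (inv_mem hm)]
    exact cj_mono _ hg
  · have h6 := hb x⁻¹ (inv_mem hx) (by rwa [orderOf_inv])
    rw [inv_inv, mul_assoc, mul_assoc, ← mul_assoc z] at h6
    obtain ⟨w, hw, h7, -⟩ := BL.dec h.zz (BL.odd_of_mem h6)
    exact (mul_mem_cancel_right (h3 (zpowers_le.2 h6 hw))).1 (hM h7)

variable {h : Cls z τ y} {F : Type*} [Field F] [Fintype F] (hF : Odd (Fintype.card F))
  {i : SL(2, F)} {φ : SL(2, F) × SL(2, F) →* Lb (Cx z)} (hl : Loc h (-1) i φ)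
include hF hl

theorem Cx_le {M : Subgroup G} (h1 : Oc z ≤ M) (h2 : Cx z ⊓ Cx τ ≤ M) {u : Cx z} {j : SL(2, F)}
    (hu : orderOf (u : G) = 2) (hj : j * j = -1) (e : pr _ u = φ (j, j)) (h3 : Cx z ⊓ Cx u ≤ M) :
    Cx z ≤ M := by
  have hw := hl.wl.wr
  have h4 : ∀ v : Cx z, orderOf (v : G) = 2 → Cx z ⊓ Cx v ≤ M → Cx (pr _ v) ≤ bar (Cx z) M :=
    fun v hv h5 x hx => by
      obtain ⟨g, hg, rfl⟩ := mem_bar.1 (centralizer_le_bar' v.2 (BL.two_grp hv) hx)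
      exact pr_mem_bar (h5 ⟨g.2, hg⟩)
  have h5 := h4 u hu h3
  rw [e] at h5
  have h6 : φ.range ≤ bar (Cx z) M := hl.wl.range_le (by
    rintro _ ⟨a, rfl⟩
    exact h4 ⟨τ, h.τ_mem⟩ h.oτ h2 (mem_Cx.2 (hw.τ_mul a a).symm)) hj
    (h5 (mem_Cx.2 (by rw [mul_pp, mul_pp, mul_one, one_mul])))
  have hjj : φ (j, j) * φ (j, j) = 1 := by rw [mul_pp, hj, hw.ker]; exact Or.inr ⟨rfl, rfl⟩
  have hj1 : j ≠ 1 := fun e1 => hw.e_ne (by rw [← hj, e1, mul_one])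
  have hj2 : j ≠ -1 := fun e1 => hw.e_ne (by rw [← hj, e1, hw.ee])
  intro x hx
  refine sup_le le_rfl h1 (mem_sup_of_pr_mem_bar' (l := ⟨x, hx⟩) ?_)
  generalize pr _ ⟨x, hx⟩ = g
  obtain ⟨⟨a, b⟩, e1⟩ := (mem_normalizer_iff.1 (hl.wl.norm (mem_top g)) _).1 ⟨(j, j), rfl⟩
  obtain e2 | e2 | ⟨ha, hb⟩ := hw.invol_in hl.wl.qs.invol (a := a) (b := b)
    (by rw [e1, conj_mul', hjj, mul_one, mul_inv_cancel])
  · rw [e2, eq_comm, conj_eq_one_iff, hw.ker] at e1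
    exact absurd (e1.imp And.left And.left) (not_or.2 ⟨hj1, hj2⟩)
  · have h7 : g * φ (-1, 1) * g⁻¹ = φ (-1, 1) := by
      obtain ⟨g, rfl⟩ := pr_surjective g
      rw [hl.ez (mem_Cx.2 rfl), ← map_inv, ← map_mul, ← map_mul]
      exact congrArg _ (Subtype.ext (mem_Cx'.1 g.2))
    rw [e2, ← h7, mul_left_inj, mul_right_inj, eq_comm, hw.eq_iff, mul_one] at e1
    exact absurd (e1.imp And.right And.right) (not_or.2 ⟨hj1, hj2⟩)
  obtain ⟨g1, e3⟩ := conj_of_sq' hF hj ha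
  obtain ⟨g2, e4⟩ := conj_of_sq' hF hj hb
  have h7 : (φ (g1, g2))⁻¹ * g ∈ Cx (φ (j, j)) := mem_Cx'.2 (by
    rw [show (φ (g1, g2))⁻¹ * g * φ (j, j) * ((φ (g1, g2))⁻¹ * g)⁻¹ =
      (φ (g1, g2))⁻¹ * (g * φ (j, j) * g⁻¹) * φ (g1, g2) by group, ← e1, ← e3, ← e4, ← conj_pp]
    group)
  exact (mul_mem_cancel_left (inv_mem (h6 ⟨_, rfl⟩))).1 (h5 h7)

end SG

open SG

variable {G : Type u} [Group G] [Finite G] {z τ y : G} {h : Cls z τ y}
  {F : Type*} [Field F] [Fintype F] (hF : Odd (Fintype.card F)) (h3 : 3 < Fintype.card F)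
  {i : SL(2, F)} {φ : SL(2, F) × SL(2, F) →* Lb (Cx z)} (hl : Loc h (-1) i φ) (hb : Beta z τ)
include hF h3 hl hb

theorem Loc.core_eq_bot (hO : pPrimeCore 2 G = ⊥) : Oc z = ⊥ := by
  obtain ⟨w, hw, ha⟩ := exists_anti hF hl.ii
  obtain ⟨c, u, v, hc, e0, e1, e2, e3, e4, e5⟩ := exists_five hl hl.ii hw ha
  obtain ⟨s, s1, s2⟩ := h.exists_swap
  have h1 := le_WW c 0
  have h2 := cent_le hF hl hb (hc.perm (Equiv.addRight 2 * Equiv.swap 3 4))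
  rw [WW_perm] at h2
  replace h2 : Cx (c 0) ⊓ Cx (c 2 * c 3) ≤ normalizer (WW c : Set G) := h2
  rw [e0] at h1
  rw [e0, e2, e3] at h2
  have h4 := eq_top h hb hc e0 e1 (Cx_le hF hl (h1.trans le_normalizer)
    (fun g hg => norm_U hl hF hb h3 hc e0 e1 (Or.inl ⟨mem_Cx'.1 hg.1, mem_Cx'.1 hg.2⟩))
    (u := u * v) (by rw [coe_mul, ← e2, ← e3]; exact hc.ord_mul h (by decide))
    (NA.anti_sq hl.ii hw ha) (by rw [map_mul, e4, e5, sb_mul hl]) h2)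
    (norm_U hl hF hb h3 hc e0 e1 (Or.inr ⟨s1, s2⟩)) s1
  have := normalizer_eq_top_iff.1 h4
  exact eq_bot_iff.2 (h1.trans ((Core.le_pPrimeCore
    (Nat.coprime_two_right.2 (signal hF hl hb hc).1)).trans hO.le))

theorem Loc.exists_wong (hO : pPrimeCore 2 G = ⊥) :
    ∃ φ' : SL(2, F) × SL(2, F) →* G, Wong φ' τ i := by
  have h1 : Function.Injective (pr (Cx z)) := (injective_iff_map_eq_one _).2 fun x hx =>
    Subtype.ext (mem_bot.1 (hl.core_eq_bot hF h3 hb hO ▸ pr_eq_one_iff.1 hx))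
  let e := MulEquiv.ofBijective _ ⟨h1, pr_surjective⟩
  let f : Lb (Cx z) →* G := (Cx z).subtype.comp e.symm.toMonoidHom
  have h2 : ∀ x, f (pr _ x) = x := fun x => congrArg Subtype.val (e.symm_apply_apply x)
  have h4 : Function.Injective f := Subtype.val_injective.comp e.symm.injective
  have hz : f.comp φ (-1, 1) = z := (congrArg f (hl.ez (mem_Cx.2 rfl))).trans (h2 _)
  have hy : f.comp φ (i, i) = y := (congrArg f hl.hy).trans (h2 _)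
  have hτ : f (pr _ ⟨τ, h.τ_mem⟩) = τ := h2 _
  have hw : Wr (-1) (f.comp φ) τ := hτ ▸ hl.wl.wr.map f fun g _ e1 => (map_eq_one_iff f h4).1 e1
  have h5 : (⊤ : Subgroup (Lb (Cx z))).map f = Cx (f.comp φ (-1, 1)) := by
    rw [hz]
    refine le_antisymm ?_ fun x hx => ⟨_, mem_top _, h2 ⟨x, hx⟩⟩
    rintro _ ⟨x, -, rfl⟩
    exact (e.symm x).2
  refine ⟨f.comp φ, hF, h3, ⟨hw, hl.wl.qs, hw.Sw_le, ?_, fun x hx hc => ?_, ?_⟩, hl.ii,
    hz.symm ▸ hy.symm ▸ h, hz.symm ▸ hb⟩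
  · rw [← h5, MonoidHom.range_comp]
    exact (map_mono hl.wl.norm).trans (le_normalizer_map f)
  · rw [hz] at hx
    rw [show x = f (pr _ ⟨x, hx⟩) from (h2 ⟨x, hx⟩).symm]
    refine (hl.wl.cent _ (mem_top (pr _ ⟨x, hx⟩)) fun p => h4 ?_).imp
      (fun e1 => by rw [e1, map_one]) (congrArg f)
    rw [map_mul, map_mul, h2]
    exact hc p
  · have h6 : Sw (f.comp φ) τ = (Sw φ (pr _ ⟨τ, h.τ_mem⟩)).map f := by
      rw [Sw, Sw, Subgroup.map_sup, MonoidHom.map_zpowers, hτ, MonoidHom.range_comp]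
    rw [h6, ← h5, relIndex_map_map_of_injective _ _ h4]
    exact hl.wl.odd

end CfsgLib.GHA
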